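import Groth.Agent.Lib.Depth.CM
import Groth.Agent.Lib.LocCoh.CMOff27

/-! # Sections outside a closed set of codimension two: quotients of regular rings -/

set_option autoImplicit false
universe u

open RingTheory.Sequence IsLocalRing Pointwise

namespace Groth.Agent.Sect6

section Depth

variable {R : Type u} [CommRing R] [IsRegularRing R]

theorem depth_localizedModule_eq_height (P : Ideal R) [P.IsPrime] :
    LocCoh.depth (Localization.AtPrime P) (LocalizedModule P.primeCompl R) = P.height := by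
  haveI : LocCoh.IsCohenMacaulayLocalRing (Localization.AtPrime P) :=
    DepthLib.isCohenMacaulayLocalRing_of_isRegularLocalRing
  have h := LocCoh.IsCohenMacaulayLocalRing.supportDim_eq_depth (R := Localization.AtPrime P)
  rw [Module.supportDim_self_eq_ringKrullDim, IsLocalization.AtPrime.ringKrullDim_eq_height P] at h
  rw [DepthLib.depth_localizedModule_self]
  exact (WithBot.coe_inj.1 h).symm

/-- In a regular ring the depth along an ideal is bounded below by the heights of the primes over it. -/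
theorem natCast_le_idealDepth_iff (I : Ideal R) (n : ℕ) :
    (n : ℕ∞) ≤ LocCoh.idealDepth I R ↔ ∀ P : Ideal R, P.IsPrime → I ≤ P → (n : ℕ∞) ≤ P.height := by
  rw [DepthLib.natCast_le_idealDepth_iff_forall_localized]
  refine ⟨fun h P hP hle => ?_, fun h p hle => ?_⟩
  · have := h ⟨P, hP⟩ hle
    rwa [depth_localizedModule_eq_height] at this
  · rw [depth_localizedModule_eq_height]
    exact h p.asIdeal p.isPrime hle

/-- A regular sequence in a prime of height `h` cutting it out as an associated prime, with depth two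
above. -/
theorem exists_cut (Q : Ideal R) [Q.IsPrime] (J : Ideal R) (hQJ : Q ≤ J) (hJt : J ≠ ⊤)
    (hJ : ∀ P : Ideal R, P.IsPrime → J ≤ P → Q.height + 2 ≤ P.height) :
    ∃ (I : Ideal R) (w : R ⧸ I), I ≤ Q ∧
      (∀ r : R, Ideal.Quotient.mk I r * w = 0 ↔ r ∈ Q) ∧
      ∃ a ∈ J, ∃ b ∈ J, (∀ c : R ⧸ I, Ideal.Quotient.mk I a * c = 0 → c = 0) ∧
        ∀ c d : R ⧸ I, Ideal.Quotient.mk I b * c = Ideal.Quotient.mk I a * d →
          ∃ e, c = Ideal.Quotient.mk I a * e := by
  obtain ⟨h, hh⟩ := ENat.ne_top_iff_exists.1 (Ideal.height_ne_top_of_isPrime (I := Q))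
  have hQt : Q • (⊤ : Submodule R R) ≠ ⊤ := by
    rw [smul_eq_mul, Ideal.mul_top]; exact Ideal.IsPrime.ne_top'
  have hQd : (h : ℕ∞) ≤ LocCoh.idealDepth Q R := by
    rw [natCast_le_idealDepth_iff]
    intro P hP hle
    rw [hh]
    exact Ideal.height_mono hle
  obtain ⟨rs, hrs, hmem, hlen⟩ := DepthLib.exists_isWeaklyRegular_of_le_idealDepth hQt hQd
  let I := Ideal.ofList rs
  have hIQ : I ≤ Q := Ideal.span_le.2 hmem
  have hI : (I • ⊤ : Submodule R R) = I := by rw [smul_eq_mul, Ideal.mul_top]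
  let e : (R ⧸ (Ideal.ofList rs • ⊤ : Submodule R R)) ≃ₗ[R] R ⧸ I := Submodule.quotEquivOfEq _ _ hI
  have hquot : ∀ X : Ideal R, Q ≤ X →
      LocCoh.idealDepth X (R ⧸ I) + (h : ℕ∞) = LocCoh.idealDepth X R := by
    intro X hX
    rw [← DepthLib.idealDepth_congr e, ← hlen]
    exact DepthLib.idealDepth_quot_add_length hrs fun r hr => hX (hmem r hr)
  have hpos : ∀ (X : Ideal R) (k : ℕ), Q ≤ X →
      (∀ P : Ideal R, P.IsPrime → X ≤ P → ((k + h : ℕ) : ℕ∞) ≤ P.height) →
      (k : ℕ∞) ≤ LocCoh.idealDepth X (R ⧸ I) := by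
    intro X k hX hk
    have h1 := (natCast_le_idealDepth_iff X (k + h)).2 hk
    rw [Nat.cast_add, ← hquot X hX] at h1
    exact (ENat.add_le_add_iff_right (ENat.natCast_ne_top h)).1 h1
  have hass : Q ∈ associatedPrimes R (R ⧸ I) := by
    have hzero : ∀ r ∈ Q, ¬ IsSMulRegular (R ⧸ I) r := by
      intro r hr hreg
      have h1 : ((1 + h : ℕ) : ℕ∞) ≤ LocCoh.idealDepth Q R := by
        rw [Nat.cast_add, ← hquot Q le_rfl]
        gcongr
        exact_mod_cast DepthLib.one_le_idealDepth_of_regular hr hreg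
      have := (natCast_le_idealDepth_iff Q (1 + h)).1 h1 Q inferInstance le_rfl
      rw [← hh, Nat.cast_le] at this
      omega
    obtain ⟨p, hp, hle⟩ := DepthLib.exists_associatedPrime_ge hzero
    rcases eq_or_lt_of_le hle with rfl | hlt
    · exact hp
    exfalso
    haveI := IsAssociatedPrime.isPrime hp
    have h1 := hpos p 1 hle fun P hP hpP => by
      rw [add_comm 1 h, Nat.cast_add, Nat.cast_one, hh]
      exact le_trans (Ideal.height_add_one_le_of_lt_of_isPrime hlt) (Ideal.height_mono hpP)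
    have hne : p • (⊤ : Submodule R (R ⧸ I)) ≠ ⊤ := fun htop => by
      have h2 : (Submodule.mkQ I) 1 ∈ p • (⊤ : Submodule R (R ⧸ I)) := by rw [htop]; exact Submodule.mem_top
      rw [← Submodule.range_mkQ I, ← Submodule.map_top,
        ← Submodule.map_smul''] at h2
      obtain ⟨z, hz, hz1⟩ := h2
      rw [smul_eq_mul, Ideal.mul_top] at hz
      exact IsAssociatedPrime.isPrime hp |>.ne_top ((Ideal.eq_top_iff_one p).2 (by
        have := sub_mem hz (hle (hIQ ((Submodule.Quotient.eq I).1 hz1)))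
        simpa using this))
    obtain ⟨x, hx, hreg⟩ := DepthLib.exists_isSMulRegular_of_one_le_idealDepth hne (by exact_mod_cast h1)
    have hmem : x ∈ ⋃ p ∈ associatedPrimes R (R ⧸ I), (p : Set R) := Set.mem_biUnion hp hx
    rw [biUnion_associatedPrimes_eq_compl_regular] at hmem
    exact hmem hreg
  obtain ⟨-, w, hw⟩ := isAssociatedPrime_iff.1 hass
  have hsmul : ∀ (r : R) (c : R ⧸ I), r • c = Ideal.Quotient.mk I r * c := fun r c => by
    obtain ⟨c, rfl⟩ := Ideal.Quotient.mk_surjective c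
    rfl
  refine ⟨I, w, hIQ, fun r => ?_, ?_⟩
  · rw [← hsmul, hw, Submodule.mem_colon_singleton, Submodule.mem_bot]
  have hJI : J • (⊤ : Submodule R (R ⧸ I)) ≠ ⊤ := fun htop => by
    obtain ⟨M, hM, hJM⟩ := Ideal.exists_le_maximal J hJt
    have h2 : (Submodule.mkQ I) 1 ∈ J • (⊤ : Submodule R (R ⧸ I)) := by rw [htop]; exact Submodule.mem_top
    rw [← Submodule.range_mkQ I, ← Submodule.map_top,
      ← Submodule.map_smul''] at h2
    obtain ⟨z, hz, hz1⟩ := h2
    rw [smul_eq_mul, Ideal.mul_top] at hz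
    exact hM.ne_top ((Ideal.eq_top_iff_one M).2 (by
      have := sub_mem (hJM hz) (hJM (hQJ (hIQ ((Submodule.Quotient.eq I).1 hz1))))
      simpa using this))
  have h2 := hpos J 2 hQJ fun P hP hle => by
    rw [Nat.cast_add, add_comm, hh]
    exact_mod_cast hJ P hP hle
  obtain ⟨l, hl, hlmem, hllen⟩ := DepthLib.exists_isWeaklyRegular_of_le_idealDepth hJI h2
  obtain ⟨a, b, rfl⟩ := List.length_eq_two.1 hllen
  rw [isWeaklyRegular_cons_iff, isWeaklyRegular_singleton_iff] at hl
  refine ⟨a, hlmem a (by simp), b, hlmem b (by simp), fun c hc => hl.1 ?_, fun c d hcd => ?_⟩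
  · show a • c = a • (0 : R ⧸ I)
    rw [smul_zero, hsmul, hc]
  · have h3 : Submodule.Quotient.mk (p := a • (⊤ : Submodule R (R ⧸ I))) c = 0 := by
      refine hl.2 ?_
      show b • _ = b • (0 : QuotSMulTop a (R ⧸ I))
      rw [smul_zero, ← Submodule.Quotient.mk_smul, Submodule.Quotient.mk_eq_zero, hsmul, hcd, ← hsmul]
      exact Submodule.smul_mem_pointwise_smul d a ⊤ trivial
    rw [Submodule.Quotient.mk_eq_zero] at h3
    obtain ⟨e', -, he⟩ := h3
    exact ⟨e', by rw [← hsmul]; exact he.symm⟩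

end Depth

section Finite

variable {B C K : Type u} [CommRing B] [IsDomain B] [CommRing C] [IsNoetherianRing C] [Field K]
  [Algebra B K] [IsFractionRing B K]

/-- The relation `y = x·w`. -/
def Rel (φ : C →+* B) (a w : C) (x : K) (y : C) : Prop :=
  ∃ (n : ℕ) (c : C), algebraMap B K (φ c) = algebraMap B K (φ a) ^ n * x ∧ a ^ n * y = c * w

theorem exists_span_finset_ge (φ : C →+* B) (a w : C) (hw : ∀ c : C, c * w = 0 ↔ φ c = 0)
    (ha : φ a ≠ 0) (S : Set K) (hS : ∀ x ∈ S, ∃ y, Rel φ a w x y) :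
    ∃ G : Finset K, ↑G ⊆ S ∧ S ⊆ Submodule.span B (G : Set K) := by
  classical
  let T : Set C := {y | ∃ x ∈ S, Rel φ a w x y}
  obtain ⟨F, hFT, hF⟩ :=
    Submodule.fg_span_iff_fg_span_finset_subset T |>.1 (IsNoetherian.noetherian (Submodule.span C T))
  choose! g hgS hgR using fun y (hy : y ∈ T) => hy
  refine ⟨F.image g, ?_, fun x hx => ?_⟩
  · intro z hz
    obtain ⟨y, hy, rfl⟩ := Finset.mem_image.1 hz
    exact hgS y (hFT hy)
  obtain ⟨y, hy⟩ := hS x hx
  have hy' : y ∈ Submodule.span C (F : Set C) := hF ▸ Submodule.subset_span ⟨x, hx, hy⟩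
  obtain ⟨x', hx', hx'y⟩ : ∃ x' ∈ Submodule.span B ((F.image g : Finset K) : Set K), Rel φ a w x' y := by
    clear hy
    induction hy' using Submodule.span_induction with
    | mem z hz => exact ⟨g z, Submodule.subset_span (Finset.mem_image_of_mem g hz), hgR z (hFT hz)⟩
    | zero => exact ⟨0, zero_mem _, 0, 0, by simp, by simp⟩
    | add z₁ z₂ _ _ h₁ h₂ =>
      obtain ⟨x₁, hx₁, n, c, hc, hcy⟩ := h₁
      obtain ⟨x₂, hx₂, m, d, hd, hdy⟩ := h₂
      refine ⟨x₁ + x₂, add_mem hx₁ hx₂, n + m, a ^ m * c + a ^ n * d, ?_, ?_⟩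
      · simp only [map_add, map_mul, map_pow, hc, hd, pow_add]; ring
      · rw [mul_add, pow_add]; linear_combination a ^ m * hcy + a ^ n * hdy
    | smul r z _ h =>
      obtain ⟨x₁, hx₁, n, c, hc, hcy⟩ := h
      refine ⟨φ r • x₁, Submodule.smul_mem _ _ hx₁, n, r * c, ?_, ?_⟩
      · rw [map_mul, map_mul, hc, Algebra.smul_def]; ring
      · rw [smul_eq_mul]; linear_combination r * hcy
  obtain ⟨n, c, hc, hcy⟩ := hy
  obtain ⟨m, d, hd, hdy⟩ := hx'y
  have h0 : φ (a ^ m * c - a ^ n * d) = 0 :=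
    (hw _).1 (by linear_combination a ^ n * hdy - a ^ m * hcy)
  have h1 : algebraMap B K (φ a) ^ (n + m) * x = algebraMap B K (φ a) ^ (n + m) * x' := by
    have := congrArg (algebraMap B K) h0
    simp only [map_sub, map_mul, map_pow, map_zero, hc, hd] at this
    rw [pow_add]; linear_combination this
  have hne : algebraMap B K (φ a) ≠ 0 := (map_ne_zero_iff _ (IsFractionRing.injective B K)).2 ha
  rw [mul_left_cancel₀ (pow_ne_zero _ hne) h1]
  exact hx'

theorem dvd_pow_of_pow_mul {a b : C} (ha : ∀ c, a * c = 0 → c = 0)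
    (hb : ∀ c d, b * c = a * d → ∃ e, c = a * e) (n : ℕ) :
    ∀ (m : ℕ) (c d : C), b ^ m * c = a ^ n * d → ∃ e, c = a ^ n * e := by
  have h1 : ∀ (c d : C), b * c = a ^ n * d → ∃ e, c = a ^ n * e := by
    induction n with
    | zero => exact fun c _ _ => ⟨c, by simp⟩
    | succ k ih =>
      intro c d hcd
      obtain ⟨e, rfl⟩ := hb c (a ^ k * d) (by rw [hcd]; ring)
      have := ha (b * e - a ^ k * d) (by linear_combination hcd)
      obtain ⟨e', rfl⟩ := ih e d (sub_eq_zero.1 this)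
      exact ⟨e', by ring⟩
  intro m
  induction m with
  | zero => exact fun c d h => ⟨d, by simpa using h⟩
  | succ k ih =>
    intro c d h
    obtain ⟨e, he⟩ := ih (b * c) d (by rw [← h]; ring)
    exact h1 c e he

theorem exists_rel (φ : C →+* B) (hφ : Function.Surjective φ) (a b w : C)
    (hw : ∀ c : C, c * w = 0 ↔ φ c = 0)
    (ha : ∀ c, a * c = 0 → c = 0) (hb : ∀ c d, b * c = a * d → ∃ e, c = a * e) (x : K) (n : ℕ)
    (hax : algebraMap B K (φ a) ^ n * x ∈ Set.range (algebraMap B K))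
    (hbx : algebraMap B K (φ b) ^ n * x ∈ Set.range (algebraMap B K)) : ∃ y, Rel φ a w x y := by
  obtain ⟨u, hu⟩ := hax
  obtain ⟨v, hv⟩ := hbx
  obtain ⟨u, rfl⟩ := hφ u
  obtain ⟨v, rfl⟩ := hφ v
  have h0 : (b ^ n * u - a ^ n * v) * w = 0 := by
    rw [hw]
    refine IsFractionRing.injective B K ?_
    simp only [map_sub, map_mul, map_pow, map_zero, hu, hv]
    ring
  obtain ⟨y, hy⟩ := dvd_pow_of_pow_mul ha hb n n (u * w) (v * w) (by linear_combination h0)
  exact ⟨y, n, u, hu, hy.symm⟩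

end Finite

end Groth.Agent.Sect6
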