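import Groth.Agent.Lib.UCat26.DimEq
import Groth.Agent.Lib.CAlgLow.NormalInter
import Groth.Prelude.Def_Found

/-! # Sections outside a closed set of codimension two: the universally catenary Japanese case -/

set_option autoImplicit false
universe u

namespace Groth.Agent.Sect6

variable {B K : Type u} [CommRing B] [IsDomain B] [Field K] [Algebra B K] [IsFractionRing B K]

/-- The elements defined at every prime outside `V(J)` form a subalgebra. -/
def sectionsOutside (B K : Type u) [CommRing B] [Field K] [Algebra B K] (J : Ideal B) : Subalgebra B K where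
  carrier := {x | ∀ (p : Ideal B) [p.IsPrime], ¬ J ≤ p →
    ∃ s : B, s ∉ p ∧ ∃ a : B, algebraMap B K a = algebraMap B K s * x}
  mul_mem' := by
    intro x y hx hy p _ hp
    obtain ⟨s, hs, a, ha⟩ := hx p hp
    obtain ⟨t, ht, b, hb⟩ := hy p hp
    exact ⟨s * t, fun h => (‹p.IsPrime›.mem_or_mem h).elim hs ht, a * b, by rw [map_mul, map_mul, ha, hb]; ring⟩
  add_mem' := by
    intro x y hx hy p _ hp
    obtain ⟨s, hs, a, ha⟩ := hx p hp
    obtain ⟨t, ht, b, hb⟩ := hy p hp
    refine ⟨s * t, fun h => (‹p.IsPrime›.mem_or_mem h).elim hs ht, a * t + b * s, ?_⟩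
    rw [map_add, map_mul, map_mul, map_mul, ha, hb]; ring
  algebraMap_mem' := fun r p hp _ =>
    ⟨1, fun h => hp.ne_top ((Ideal.eq_top_iff_one p).2 h), r, by rw [map_one, one_mul]⟩

theorem sectionsOutside_le_integralClosure (hUC : CAlg.IsUniversallyCatenary B)
    [Module.Finite B (integralClosure B K)] [IsNoetherianRing B] {J : Ideal B} (hJ : (2 : ℕ∞) ≤ J.height)
    {x : K} (hx : x ∈ sectionsOutside B K J) : x ∈ integralClosure B K := by
  let N := integralClosure B K
  haveI : IsNoetherianRing N := IsNoetherianRing.of_finite B N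
  haveI : IsFractionRing N K := integralClosure.isFractionRing_of_finite_extension K K
  haveI : IsIntegrallyClosed N := integralClosure.isIntegrallyClosedOfFiniteExtension K
  haveI : FaithfulSMul B N := (faithfulSMul_iff_algebraMap_injective B N).2 fun a b h =>
    IsFractionRing.injective B K (congrArg Subtype.val h)
  obtain ⟨y, hy⟩ := NormalInter.mem_range_of_forall_height_one (R := N) x fun P hP hP1 => by
    let p := P.under B
    haveI : P.LiesOver p := ⟨rfl⟩
    have h := UCat26.height_add_tr_eq B hUC N p P
    have h0 : DimFormula14.tr B N = 0 := by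
      rw [DimFormula14.tr, trdeg_eq_zero, map_zero]
    have h1 : DimFormula14.tr (B ⧸ p) (N ⧸ P) = 0 := by
      haveI : Algebra.IsIntegral (B ⧸ p) (N ⧸ P) := inferInstance
      rw [DimFormula14.tr, trdeg_eq_zero, map_zero]
    rw [h0, h1, add_zero, add_zero, hP1] at h
    obtain ⟨s, hs, a, ha⟩ := hx p fun hle => by
      have := hJ.trans (Ideal.height_mono hle)
      rw [← h] at this
      exact absurd this (by norm_num)
    exact ⟨algebraMap B N s, hs, algebraMap B N a, ha⟩
  rw [← hy]
  exact y.2

theorem finite_sectionsOutside_of_japanese (hUC : CAlg.IsUniversallyCatenary B)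
    [Module.Finite B (integralClosure B K)] [IsNoetherianRing B] {J : Ideal B} (hJ : (2 : ℕ∞) ≤ J.height) :
    Module.Finite B (sectionsOutside B K J) := by
  let N := integralClosure B K
  haveI : IsNoetherian B N := isNoetherian_of_isNoetherianRing_of_finite B N
  have hle : sectionsOutside B K J ≤ N := fun x hx => sectionsOutside_le_integralClosure hUC hJ hx
  exact Module.Finite.of_injective (Subalgebra.inclusion hle).toLinearMap (Subalgebra.inclusion_injective hle)

end Groth.Agent.Sect6
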